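import Groth.Agent.RelPCLpull.Core
import Groth.Agent.DQCoh.PCTensor

/-!
Relative pseudo-coherence of a derived pullback along a pseudo-coherent morphism.
-/

set_option backward.isDefEq.respectTransparency false
set_option backward.isDefEq.respectTransparency.types false
set_option linter.style.haveILetI false
set_option autoImplicit false
set_option maxHeartbeats 1000000

universe u

open CategoryTheory Limits AlgebraicGeometry Pretriangulated Opposite TopologicalSpace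

attribute [local instance] HasDerivedCategory.standard

namespace Groth.Agent.RelPCLpull

open Groth.Agent.DQCoh Groth.Agent.RelPC Groth.Agent.RelPCS Groth.Agent.KFlat Groth.Agent.ProjForm

variable {X Y S : Scheme.{u}} {f : X ⟶ Y}

/-- the derived pullback on affine charts -/
lemma nonempty_lpull_chart [DCoh.HasLpull f] {V : Y.Opens} (hV : IsAffineOpen V) {U : X.Opens} (hU : IsAffineOpen U)
    (hUV : U ≤ f ⁻¹ᵁ V) {Q : Type u} [CommRing Q] (c : Γ(Y, V) →+* Q) [Flat (sp c)] (φ : Q →+* Γ(X, U))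
    (hc : φ.comp c = (f.appLE V U hUV).hom) [DCoh.HasLpull (sp φ)] (E : DCoh.D Y) :
    Nonempty ((DCoh.Lpull (sp φ)).obj ((PB (sp c)).obj ((RD hV.fromSpec).obj E)) ≅
      (RD hU.fromSpec).obj ((DCoh.Lpull f).obj E)) := by
  obtain ⟨K, hK, -, ⟨eK⟩⟩ := KFlat.exists_isKFlat_rep E
  let jV := hV.fromSpec
  let jU := hU.fromSpec
  have w : sp φ ≫ sp c ≫ jV = jU ≫ f := by
    rw [← Category.assoc, ← Spec.map_comp, ← CommRingCat.ofHom_comp, hc]
    exact IsAffineOpen.SpecMap_appLE_fromSpec f hV hU hUV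
  let hK1 : DCoh.IsKFlat ((qC (sp c)).obj ((qC jV).obj K)) :=
    KFlat.isKFlat_pullback (sp c) (KFlat.isKFlat_pullback jV hK)
  let e1 : (RD jV).obj E ≅ DCoh.toD _ ((qC jV).obj K) :=
    (RD jV).mapIso eK.symm ≪≫ rdIso jV K ≪≫ DerivedCategory.Q.mapIso (rCIsoQC jV K)
  let e2 : (PB (sp c)).obj ((RD jV).obj E) ≅ DCoh.toD _ ((qC (sp c)).obj ((qC jV).obj K)) :=
    (PB (sp c)).mapIso e1 ≪≫ (Scheme.Modules.pullback (sp c)).mapDerivedCategoryFactors.app _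
  let F : Y.Modules ⥤ (Spec (CommRingCat.of Γ(X, U))).Modules :=
    Scheme.Modules.pullback jV ⋙ Scheme.Modules.pullback (sp c) ⋙ Scheme.Modules.pullback (sp φ)
  let eF : F ≅ Scheme.Modules.pullback f ⋙ Scheme.Modules.pullback jU :=
    Functor.isoWhiskerLeft _ (Scheme.Modules.pullbackComp (sp φ) (sp c)) ≪≫
      Scheme.Modules.pullbackComp (sp φ ≫ sp c) jV ≪≫
      Scheme.Modules.pullbackCongr ((Category.assoc _ _ _).trans w) ≪≫ (Scheme.Modules.pullbackComp jU f).symm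
  let e3 : (qC (sp φ)).obj ((qC (sp c)).obj ((qC jV).obj K)) ≅ (qC jU).obj ((qC f).obj K) :=
    HomologicalComplex.Hom.isoOfComponents (fun n => eF.app (K.X n))
      fun a b _ => (eF.hom.naturality (K.d a b)).symm
  exact ⟨(DCoh.Lpull (sp φ)).mapIso e2 ≪≫ ProjForm.lpullIso (sp φ) hK1 ≪≫
    DerivedCategory.Q.mapIso (e3 ≪≫ (rCIsoQC jU ((qC f).obj K)).symm) ≪≫ (rdIso jU _).symm ≪≫
    (RD jU).mapIso ((ProjForm.lpullIso f hK).symm ≪≫ (DCoh.Lpull f).mapIso eK)⟩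

/-- the polynomial base change square -/
lemma flat_sp_C {B : Type u} [CommRing B] (k : ℕ) :
    Flat (sp (MvPolynomial.C : B →+* MvPolynomial (Fin k) B)) :=
  Flat.SpecMap_iff.2 ((RingHom.flat_algebraMap_iff (R := B) (S := MvPolynomial (Fin k) B)).2 inferInstance)

/-- one pair of charts -/
theorem qpc_lpull [DCoh.HasLpull f] {V : Y.Opens} (hV : IsAffineOpen V) {U : X.Opens}
    (hU : IsAffineOpen U) (hUV : U ≤ f ⁻¹ᵁ V) {k : ℕ} {φ : MvPolynomial (Fin k) Γ(Y, V) →+* Γ(X, U)}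
    (hφ : DerSch.IsChart f U V hUV φ) (hpc : PCHom φ) {P : Type u} [CommRing P] {ψ : P →+* Γ(Y, V)} {m : ℤ}
    {E : DCoh.D Y} (hE : QPC m E hV.fromSpec ψ) :
    QPC m ((DCoh.Lpull f).obj E) hU.fromSpec (φ.comp (MvPolynomial.map ψ)) := by
  obtain ⟨hψ, hE⟩ := hE
  have hψ' : Function.Surjective (MvPolynomial.map (σ := Fin k) ψ) := MvPolynomial.map_surjective ψ hψ
  haveI := closedImm_sp hψ
  haveI := closedImm_sp hψ'
  haveI := closedImm_sp hφ.1
  haveI := closedImm_sp (φ := φ.comp (MvPolynomial.map ψ)) (hφ.1.comp hψ')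
  haveI := flat_sp_C (B := P) k
  haveI := flat_sp_C (B := Γ(Y, V)) k
  haveI := KFlat.hasLpull (sp φ)
  refine ⟨hφ.1.comp hψ', ?_⟩
  have h1 := pc_of_iso ((pdBaseIso (γ := (MvPolynomial.C : P →+* MvPolynomial (Fin k) P))
    (δ := (MvPolynomial.C : Γ(Y, V) →+* MvPolynomial (Fin k) Γ(Y, V))) hψ hψ'
    (le_of_eq (MvPolynomial.ker_map ψ)) (RingHom.ext fun r => MvPolynomial.map_C ψ r)).app
      ((RD hV.fromSpec).obj E)) (pc_pb _ hE)
  have h2 := pc_push_lpull hφ.1 hpc hψ' _ h1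
  obtain ⟨e⟩ := nonempty_lpull_chart hV hU hUV MvPolynomial.C φ hφ.2 E
  exact pc_of_iso ((PD (sp (φ.comp (MvPolynomial.map ψ)))).mapIso e) h2

/-- relative pseudo-coherence of the derived pullback -/
theorem rel_lpull {g : Y ⟶ S} [LocallyOfFiniteType f] [LocallyOfFiniteType g]
    (hf : ∀ n : ℤ, DerSch.IsNPseudoCoherent f n) [DCoh.HasLpull f] {m : ℤ} {E : DCoh.D Y}
    (hE : DerSch.IsPseudoCoherentRel g m E) :
    DerSch.IsPseudoCoherentRel (f ≫ g) m ((DCoh.Lpull f).obj E) := by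
  refine ⟨inferInstance, Set.univ, ?_, fun W _ => ⟨{U | ∃ V : Y.affineOpens,
    (U : X.Opens) ≤ f ⁻¹ᵁ (V : Y.Opens) ∧ (V : Y.Opens) ≤ g ⁻¹ᵁ (W : S.Opens)}, ?_, ?_⟩⟩
  · simpa using iSup_affineOpens_eq_top S
  · refine le_antisymm (iSup₂_le fun U ⟨V, hUV, hVW⟩ => hUV.trans (f.preimage_mono hVW)) fun x hx => ?_
    obtain ⟨U, V, hxU, hUV, hVW⟩ := exists_pair_le f (O := g ⁻¹ᵁ (W : S.Opens)) hx
    exact Opens.mem_iSup.2 ⟨U, Opens.mem_iSup.2 ⟨⟨V, hUV, hVW⟩, hxU⟩⟩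
  · rintro U ⟨V, hUV, hVW⟩ hle
    obtain ⟨k, φ, hφ⟩ := exists_chart U.2 V.2 hUV
    obtain ⟨n, ψ, hψ⟩ := exists_chart V.2 W.2 hVW
    obtain ⟨θ, e, hθ, rfl⟩ := exists_chart_comp hUV hVW hφ hψ
    have hs := MvPolynomial.map_surjective (σ := Fin k) ψ hψ.1
    refine ⟨_, _, hθ, (chartPC_iff U.2 _ _ hθ.1).2 ?_⟩
    refine (qpc_comp_iff (ψ := e.toRingHom) e.surjective (pcHom_of_ringEquiv e) (hφ.1.comp hs)).2 ?_
    exact qpc_lpull V.2 U.2 hUV hφ
      (pcHom_of_qpc_unit U.2 fun l => qpc_of_rel (hf l) U.2 V.2 hUV hφ) (qpc_of_rel hE V.2 W.2 hVW hψ)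

end Groth.Agent.RelPCLpull
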