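import Groth.Agent.RelPCS.Comp
import Groth.Agent.RelPCS.FlatPiece
import Groth.Agent.RelPC.LBC
import Groth.Agent.TorBC.Chain
import Groth.Agent.FMTool.Diag
import Groth.Agent.KFlat.BoundedRes
import Groth.Agent.KFlat.Exact
import Groth.Agent.ProjForm.Main

/-!
Derived pullback along a pseudo-coherent closed immersion keeps pseudo-coherence of a direct image.
-/

set_option backward.isDefEq.respectTransparency false
set_option backward.isDefEq.respectTransparency.types false
set_option linter.style.haveILetI false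
set_option autoImplicit false
set_option maxHeartbeats 1000000

universe u

open CategoryTheory Limits AlgebraicGeometry Pretriangulated Opposite

attribute [local instance] HasDerivedCategory.standard

namespace Groth.Agent.RelPCLpull

open Groth.Agent.DQCoh Groth.Agent.RelPC Groth.Agent.RelPCS Groth.Agent.KFlat Groth.Agent.ProjForm Groth.Agent.TorBC

section tens

variable {B : Type u} [CommRing B] {Z : Scheme.{u}} (i : Spec (CommRingCat.of B) ⟶ Z)
  (G : CochainComplex (Spec (CommRingCat.of B)).Modules ℤ)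

/-- the quasi-coherent sheaf of a module -/
noncomputable abbrev tl (N : ModuleCat.{u} B) : (Spec (CommRingCat.of B)).Modules :=
  (tilde.functor (CommRingCat.of B)).obj N

/-- `G ⊗ F`, pushed forward -/
noncomputable abbrev pushTens (F : (Spec (CommRingCat.of B)).Modules) : CochainComplex Z.Modules ℤ :=
  (pC i).obj ((TN F).obj G)

/-- functoriality of `G ⊗ F` in the module -/
noncomputable def pushTensMap {F F' : (Spec (CommRingCat.of B)).Modules} (a : F ⟶ F') :
    pushTens i G F ⟶ pushTens i G F' :=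
  (pC i).map
    { f := fun n => ((schB _).obj (G.X n)).map a
      comm' := fun p q _ => ((schB _).map (G.d p q)).naturality a }

variable [IsClosedImmersion i]

/-- short exact sequences of modules give short exact sequences of complexes -/
lemma exists_tensSeq (hG : ∀ n, FlatMod.IsFlat (G.X n)) {S : ShortComplex (ModuleCat.{u} B)} (hS : S.ShortExact) :
    ∃ S' : ShortComplex (CochainComplex Z.Modules ℤ), S'.ShortExact ∧ S'.X₁ = pushTens i G (tl S.X₁) ∧
      S'.X₂ = pushTens i G (tl S.X₂) ∧ S'.X₃ = pushTens i G (tl S.X₃) := by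
  let T : ℤ → ((Spec (CommRingCat.of B)).Modules ⥤ Z.Modules) := fun n =>
    (schB _).obj (G.X n) ⋙ Scheme.Modules.pushforward i
  have hS' : (S.map (tilde.functor (CommRingCat.of B))).ShortExact := hS.map_of_exact _
  haveI : (Scheme.Modules.pushforward i).PreservesHomology := KFlat.preservesHomology_pushforward i
  have h0 : pushTensMap i G ((tilde.functor (CommRingCat.of B)).map S.f) ≫
      pushTensMap i G ((tilde.functor (CommRingCat.of B)).map S.g) = 0 := HomologicalComplex.hom_ext _ _ fun n => by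
    change (T n).map ((tilde.functor (CommRingCat.of B)).map S.f) ≫
      (T n).map ((tilde.functor (CommRingCat.of B)).map S.g) = 0
    rw [← Functor.map_comp, ← Functor.map_comp, S.zero, Functor.map_zero, Functor.map_zero]
  refine ⟨ShortComplex.mk _ _ h0, HomologicalComplex.shortExact_of_degreewise_shortExact _ fun n => ?_,
    rfl, rfl, rfl⟩
  have h1 := KFlat.shortExact_obj_of_flatObj (B := schB _) (e := (KFlat.braid _ : schB _ ≅ (schB _).flip))
    (KFlat.flatObj_of_isFlat (hG n)) _ hS'
  exact h1.map_of_exact (Scheme.Modules.pushforward i)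

omit [IsClosedImmersion i] in
lemma isAboveD_pushTens {b : ℤ} (hb : ∀ n, b < n → IsZero (G.X n)) (F : (Spec (CommRingCat.of B)).Modules) :
    IsAboveD (b + 1) (DCoh.toD Z (pushTens i G F)) := fun n hn =>
  IsZero.of_iso (ShortComplex.isZero_homology_of_isZero_X₂ _
      ((Scheme.Modules.pushforward i).map_isZero (((schB _).flip.obj F).map_isZero (hb n (by lia)))))
    ((DerivedCategory.homologyFunctorFactors Z.Modules n).app _)

lemma pc_pushTens_free (hG : ∀ n, FlatMod.IsFlat (G.X n)) {m : ℤ}
    (h : DCoh.IsPseudoCoherentD m (DCoh.toD Z ((pC i).obj G))) :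
    ∀ r : ℕ, DCoh.IsPseudoCoherentD m (DCoh.toD Z (pushTens i G (tl (ModuleCat.of B (Fin r → B))))) := by
  intro r
  induction r with
  | zero =>
    refine pc_of_isAbove fun n _ => ?_
    refine (DerivedCategory.Q ⋙ DerivedCategory.homologyFunctor _ n).map_isZero
      ((IsZero.iff_id_eq_zero _).2 (HomologicalComplex.hom_ext _ _ fun j => ?_))
    exact IsZero.eq_of_src ((Scheme.Modules.pushforward i).map_isZero (((schB _).obj (G.X j)).map_isZero
      ((tilde.functor (CommRingCat.of B)).map_isZero (ModuleCat.isZero_of_subsingleton (ModuleCat.of B (Fin 0 → B)))))) _ _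
  | succ r ih =>
    let i₀ : ModuleCat.of B B ⟶ ModuleCat.of B (Fin (r + 1) → B) :=
      ModuleCat.ofHom (LinearMap.single B (fun _ : Fin (r + 1) => B) 0)
    let q₀ : ModuleCat.of B (Fin (r + 1) → B) ⟶ ModuleCat.of B (Fin r → B) :=
      ModuleCat.ofHom (LinearMap.funLeft B B Fin.succ)
    have hex : Function.Exact i₀.hom q₀.hom := fun x => ⟨fun hx => by
      refine ⟨x 0, funext fun j => ?_⟩
      refine Fin.cases ?_ (fun j => ?_) j
      · simp [i₀]
      · have hj := congrFun hx j
        simp only [q₀, ModuleCat.hom_ofHom, LinearMap.funLeft_apply, Pi.zero_apply] at hj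
        simp [i₀, hj]
        rfl,
      by rintro ⟨a, rfl⟩; ext j; simp [i₀, q₀, LinearMap.funLeft_apply]; rfl⟩
    have hS : (ShortComplex.mk i₀ q₀ (ModuleCat.hom_ext (LinearMap.ext fun a => hex.apply_apply_eq_zero a))).ShortExact :=
      { exact := (ShortComplex.ShortExact.moduleCat_exact_iff_function_exact _).2 hex
        mono_f := (ModuleCat.mono_iff_injective _).2 (Pi.single_injective (M := fun _ : Fin (r + 1) => B) 0)
        epi_g := (ModuleCat.epi_iff_surjective _).2
          (LinearMap.funLeft_surjective_of_injective B B Fin.succ (Fin.succ_injective r)) }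
    obtain ⟨S', hS', e₁, e₂, e₃⟩ := exists_tensSeq i G hG hS
    haveI : IsIso (unitTN G) := by
      haveI : ∀ n, IsIso ((unitTN G).f n) := fun n => by
        haveI := ProjForm.isIso_rho (G.X n)
        exact inferInstanceAs (IsIso (inv (rho (G.X n))))
      exact HomologicalComplex.Hom.isIso_of_components _
    let eu : tl (ModuleCat.of B B) ≅ OO (Spec (CommRingCat.of B)) :=
      AlgebraicGeometry.tildeSelf (R := CommRingCat.of B)
    have h1 : DCoh.IsPseudoCoherentD m (DCoh.toD Z (pushTens i G (tl (ModuleCat.of B B)))) :=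
      pc_of_iso (DerivedCategory.Q.mapIso ((pC i).mapIso
        ((NatIso.mapHomologicalComplex ((schB _).flip.mapIso eu) (ComplexShape.up ℤ)).app G ≪≫ asIso (unitTN G)))).symm h
    rw [← e₁] at h1
    rw [← e₃] at ih
    rw [← e₂]
    exact pc_obj₂ _ (DerivedCategory.triangleOfSES_distinguished hS') m h1 ih

/-- tensoring with a pseudo-coherent module -/
theorem pc_pushTens {b : ℤ} (hb : ∀ n, b < n → IsZero (G.X n)) (hG : ∀ n, FlatMod.IsFlat (G.X n)) :
    ∀ (d : ℕ) (m : ℤ), b + 1 ≤ m + d → DCoh.IsPseudoCoherentD m (DCoh.toD Z ((pC i).obj G)) →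
      ∀ N : ModuleCat.{u} B, DRing.IsPseudoCoherentModule' B N →
        DCoh.IsPseudoCoherentD m (DCoh.toD Z (pushTens i G (tl N))) := by
  intro d
  induction d with
  | zero =>
    intro m hm _ N _
    exact pc_of_isAbove fun n hn => isAboveD_pushTens i G hb _ n (by lia)
  | succ d ih =>
    intro m hm h N hN
    haveI : Module.Finite B N := (DRingKP.pcModule_zero_iff N).1 (DRingKP.pc_of_pc' hN 0)
    obtain ⟨r, p, hp⟩ := Module.Finite.exists_fin' B N
    let ι := (LinearMap.ker p).subtype
    have hS : (ShortComplex.mk (ModuleCat.ofHom ι) (ModuleCat.ofHom p)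
        (ModuleCat.hom_ext (LinearMap.ext fun x => x.2))).ShortExact :=
      { exact := (ShortComplex.moduleCat_exact_iff_range_eq_ker _).2 (Submodule.range_subtype _)
        mono_f := (ModuleCat.mono_iff_injective _).2 Subtype.val_injective
        epi_g := (ModuleCat.epi_iff_surjective _).2 hp }
    have hK : DRing.IsPseudoCoherentModule' B ↥(LinearMap.ker p) := DRingKP.pc'_of_forall fun k => by
      have := DRingKP.pc_obj₁ _ hS.singleTriangle_distinguished (k - 1)
        (DRingKP.pcModule_of_free (ModuleCat.of B (Fin r → B)) _) (DRingKP.pc_of_pc' hN (k - 1))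
      rwa [sub_add_cancel] at this
    obtain ⟨S', hS', e₁, e₂, e₃⟩ := exists_tensSeq i G hG hS
    have h1 := ih (m + 1) (by lia) (pc_mono (by lia) h) (ModuleCat.of B ↥(LinearMap.ker p)) hK
    have h2 := pc_pushTens_free i G hG h r
    rw [← e₁] at h1
    rw [← e₂] at h2
    rw [← e₃]
    exact pc_obj₃ _ (DerivedCategory.triangleOfSES_distinguished hS') m h1 h2

end tens

/-- pseudo-coherence of the direct image of the derived pullback along a closed immersion -/
theorem pc_push_lpull {B C P : Type u} [CommRing B] [CommRing C] [CommRing P] {φ : B →+* C}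
    (hφ : Function.Surjective φ) (hpc : PCHom φ) {ψ : P →+* B} (hψ : Function.Surjective ψ) {m : ℤ}
    (E : DCoh.D (Spec (CommRingCat.of B))) [DCoh.HasLpull (sp φ)] :
    haveI := closedImm_sp hψ
    DCoh.IsPseudoCoherentD m ((PD (sp ψ)).obj E) →
    haveI := closedImm_sp (φ := φ.comp ψ) (hφ.comp hψ)
    DCoh.IsPseudoCoherentD m ((PD (sp (φ.comp ψ))).obj ((DCoh.Lpull (sp φ)).obj E)) := by
  haveI := closedImm_sp hψ
  haveI := closedImm_sp hφ
  haveI := closedImm_sp (φ := φ.comp ψ) (hφ.comp hψ)
  intro h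
  obtain ⟨b₀, hb₀⟩ := exists_bound_of_pc h
  have hE : IsAboveD b₀ E := fun n hn => by
    have hz := (hb₀ n hn).of_iso ((homologyDerIso (Scheme.Modules.pushforward (sp ψ)) n).app _).symm
    rw [IsZero.iff_id_eq_zero]
    exact (Scheme.Modules.pushforward (sp ψ)).map_injective (hz.eq_of_src _ _)
  -- a bounded above flat representative
  haveI : E.IsLE b₀ := (DerivedCategory.isLE_iff E b₀).2 fun n hn => hE n hn.le
  obtain ⟨G₀, hG₀, ⟨e₀⟩⟩ := DerivedCategory.exists_iso_Q_obj_of_isLE E b₀
  haveI := hG₀
  obtain ⟨G, q, hGK, hGflat, hq, hGle⟩ := KFlat.exists_resolution_le_sch G₀ b₀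
  haveI := hq
  haveI := hGle
  have hGb : ∀ n, b₀ < n → IsZero (G.X n) := fun n hn => G.isZero_of_isStrictlyLE b₀ n hn
  let e : DCoh.toD _ G ≅ E := asIso (DerivedCategory.Q.map q) ≪≫ e₀.symm
  let N : ModuleCat.{u} B := (ModuleCat.restrictScalars.{u} φ).obj (ModuleCat.of C C)
  have hN : DRing.IsPseudoCoherentModule' B N :=
    DRingKP.pc'_of_forall fun k => DRingKP.pc_of_iso (resInDIso φ (ModuleCat.of C C)) (DRingKP.pc_of_pc' hpc k)
  have hG' : DCoh.IsPseudoCoherentD m (DCoh.toD _ ((pC (sp ψ)).obj G)) :=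
    pc_of_iso ((PD (sp ψ)).mapIso e.symm ≪≫ pdIso (sp ψ) G) h
  have key := pc_pushTens (sp ψ) G hGb hGflat (b₀ + 1 - m).toNat m (by lia) hG' N hN
  -- identification
  let j := sp φ
  let eN : (Scheme.Modules.pushforward j).obj (OO (Spec (CommRingCat.of C))) ≅ tl N :=
    (Scheme.Modules.pushforward j).mapIso (AlgebraicGeometry.tildeSelf (R := CommRingCat.of C)).symm ≪≫
      (pushTildeIso (CommRingCat.ofHom φ)).app (ModuleCat.of C C)
  haveI := FMTool.isIso_unitAct_closedImm j
  let eU : (TN ((Scheme.Modules.pushforward j).obj (OO (Spec (CommRingCat.of C))))).obj G ≅ (pC j).obj ((qC j).obj G) :=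
    HomologicalComplex.Hom.isoOfComponents (fun n => (asIso (TorBC.unitAct j)).app (G.X n))
      fun a c _ => ((TorBC.unitAct j).naturality (G.d a c)).symm
  refine pc_of_iso ?_ key
  exact DerivedCategory.Q.mapIso ((pC (sp ψ)).mapIso
      ((NatIso.mapHomologicalComplex ((schB _).flip.mapIso eN.symm) (ComplexShape.up ℤ)).app G ≪≫ eU)) ≪≫
    (pdIso (sp ψ) _).symm ≪≫ (PD (sp ψ)).mapIso (pdIso j _).symm ≪≫
    ((pdComp j (sp ψ)).app _).symm ≪≫
    ((pdCongr (show sp (φ.comp ψ) = j ≫ sp ψ by rw [← Spec.map_comp]; rfl)).app _).symm ≪≫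
    (PD (sp (φ.comp ψ))).mapIso ((ProjForm.lpullIso j hGK).symm ≪≫ (DCoh.Lpull j).mapIso e)

end Groth.Agent.RelPCLpull
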